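import Mathlib

set_option autoImplicit false

namespace Groth.Agent.Lib.Helper5.Kempf

open scoped RealInnerProductSpace

/-- a `ℚ`-linear retraction `ℝ → ℚ` -/
theorem exists_ratProj : ∃ π : ℝ →ₗ[ℚ] ℚ, ∀ q : ℚ, π (q : ℝ) = q := by
  have hinj : LinearMap.ker (Algebra.linearMap ℚ ℝ) = ⊥ := by
    rw [LinearMap.ker_eq_bot]
    exact (algebraMap ℚ ℝ).injective
  obtain ⟨g, hg⟩ := LinearMap.exists_leftInverse_of_injective (Algebra.linearMap ℚ ℝ) hinj
  refine ⟨g, fun q => ?_⟩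
  have := LinearMap.congr_fun hg q
  simpa using this

theorem ratProj_mul (π : ℝ →ₗ[ℚ] ℚ) (q : ℚ) (x : ℝ) : π ((q : ℝ) * x) = q * π x := by
  have : (q : ℝ) * x = q • x := by rw [Rat.smul_def]
  rw [this, map_smul, smul_eq_mul]

theorem ratProj_mul' (π : ℝ →ₗ[ℚ] ℚ) (q : ℚ) (x : ℝ) : π (x * (q : ℝ)) = π x * q := by
  rw [mul_comm, ratProj_mul, mul_comm]

section IsRat
variable {E : Type*} [NormedAddCommGroup E] [InnerProductSpace ℝ E] (L : Submodule ℤ E)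

/-- rational points with respect to the lattice -/
def IsRat (x : E) : Prop := ∃ n : ℕ, 0 < n ∧ n • x ∈ L

variable {L}

theorem IsRat.of_mem {x : E} (hx : x ∈ L) : IsRat L x := ⟨1, one_pos, by simpa using hx⟩

theorem IsRat.zero : IsRat L (0 : E) := IsRat.of_mem L.zero_mem

theorem IsRat.add {x y : E} (hx : IsRat L x) (hy : IsRat L y) : IsRat L (x + y) := by
  obtain ⟨n, hn, hnx⟩ := hx
  obtain ⟨m, hm, hmy⟩ := hy
  refine ⟨n * m, Nat.mul_pos hn hm, ?_⟩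
  have : (n * m) • (x + y) = m • (n • x) + n • (m • y) := by
    rw [smul_add, mul_smul n m y, mul_comm n m, mul_smul m n x]
  rw [this]
  exact L.add_mem (nsmul_mem hnx m) (nsmul_mem hmy n)

theorem IsRat.neg {x : E} (hx : IsRat L x) : IsRat L (-x) := by
  obtain ⟨n, hn, hnx⟩ := hx
  exact ⟨n, hn, by rw [smul_neg]; exact L.neg_mem hnx⟩

theorem IsRat.sub {x y : E} (hx : IsRat L x) (hy : IsRat L y) : IsRat L (x - y) := by
  rw [sub_eq_add_neg]; exact hx.add hy.neg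

theorem IsRat.smul_rat {x : E} (hx : IsRat L x) (q : ℚ) : IsRat L ((q : ℝ) • x) := by
  obtain ⟨n, hn, hnx⟩ := hx
  refine ⟨q.den * n, Nat.mul_pos q.pos hn, ?_⟩
  have : (q.den * n) • ((q : ℝ) • x) = q.num • (n • x) := by
    rw [← Nat.cast_smul_eq_nsmul ℝ, ← Nat.cast_smul_eq_nsmul ℝ n x, ← Int.cast_smul_eq_zsmul ℝ,
      smul_smul, smul_smul]
    congr 1
    have hq : (q : ℝ) = (q.num : ℝ) / (q.den : ℝ) := by
      exact_mod_cast (Rat.num_div_den q).symm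
    have hd : (q.den : ℝ) ≠ 0 := by exact_mod_cast q.den_ne_zero
    rw [hq]
    push_cast
    field_simp
  rw [this]
  exact L.smul_mem _ hnx

theorem IsRat.sum {ι : Type*} (s : Finset ι) (f : ι → E) (h : ∀ i ∈ s, IsRat L (f i)) :
    IsRat L (∑ i ∈ s, f i) := by
  classical
  induction s using Finset.induction_on with
  | empty => simpa using IsRat.zero
  | insert a s ha ih =>
    rw [Finset.sum_insert ha]
    exact (h a (Finset.mem_insert_self a s)).add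
      (ih (fun i hi => h i (Finset.mem_insert_of_mem hi)))

theorem IsRat.inner_rat (hint : ∀ x ∈ L, ∀ y ∈ L, ∃ n : ℤ, inner ℝ x y = (n : ℝ))
    {x y : E} (hx : IsRat L x) (hy : IsRat L y) : ∃ q : ℚ, inner ℝ x y = (q : ℝ) := by
  obtain ⟨n, hn, hnx⟩ := hx
  obtain ⟨m, hm, hmy⟩ := hy
  obtain ⟨k, hk⟩ := hint _ hnx _ hmy
  refine ⟨(k : ℚ) / ((n : ℚ) * (m : ℚ)), ?_⟩
  rw [← Nat.cast_smul_eq_nsmul ℝ, ← Nat.cast_smul_eq_nsmul ℝ, real_inner_smul_left,
    real_inner_smul_right] at hk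
  have hn' : (n : ℝ) ≠ 0 := by exact_mod_cast hn.ne'
  have hm' : (m : ℝ) ≠ 0 := by exact_mod_cast hm.ne'
  push_cast
  field_simp
  linarith

theorem IsRat.apply_rat (φ : Module.Dual ℝ E) (hφ : ∀ x ∈ L, ∃ n : ℤ, φ x = (n : ℝ))
    {x : E} (hx : IsRat L x) : ∃ q : ℚ, φ x = (q : ℝ) := by
  obtain ⟨n, hn, hnx⟩ := hx
  obtain ⟨k, hk⟩ := hφ _ hnx
  refine ⟨(k : ℚ) / (n : ℚ), ?_⟩
  rw [← Nat.cast_smul_eq_nsmul ℝ, map_smul, smul_eq_mul] at hk
  have hn' : (n : ℝ) ≠ 0 := by exact_mod_cast hn.ne'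
  push_cast
  field_simp
  linarith

end IsRat

end Groth.Agent.Lib.Helper5.Kempf
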