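import Mathlib
import Groth.Agent.Lib.Helper5.Kempf.A

set_option autoImplicit false

namespace Groth.Agent.Lib.Helper5.Kempf

open scoped RealInnerProductSpace

section Riesz
variable {E : Type*} [NormedAddCommGroup E] [InnerProductSpace ℝ E] [FiniteDimensional ℝ E]
  (L : Submodule ℤ E) [DiscreteTopology L] [IsZLattice ℝ L]

/-- Riesz vector of a functional -/
noncomputable def riesz (φ : Module.Dual ℝ E) : E :=
  (InnerProductSpace.toDual ℝ E).symm (LinearMap.toContinuousLinearMap φ)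

theorem inner_riesz (φ : Module.Dual ℝ E) (x : E) : inner ℝ (riesz φ) x = φ x := by
  unfold riesz
  rw [InnerProductSpace.toDual_symm_apply]
  rfl

theorem eq_of_forall_inner_basis {ι : Type*} (e : Module.Basis ι ℝ E) (a a' : E)
    (h : ∀ i, inner ℝ a (e i) = inner ℝ a' (e i)) : a = a' := by
  have h1 : innerₛₗ ℝ a = innerₛₗ ℝ a' := by
    apply e.ext
    intro i
    simpa using h i
  have h2 : inner ℝ (a - a') (a - a') = 0 := by
    have := LinearMap.congr_fun h1 (a - a')
    simp only [innerₛₗ_apply_apply] at this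
    rw [inner_sub_left, this, sub_self]
  exact sub_eq_zero.mp (inner_self_eq_zero.mp h2)

theorem isRat_riesz (hint : ∀ x ∈ L, ∀ y ∈ L, ∃ n : ℤ, inner ℝ x y = (n : ℝ))
    (φ : Module.Dual ℝ E) (hφ : ∀ x ∈ L, ∃ n : ℤ, φ x = (n : ℝ)) : IsRat L (riesz φ) := by
  classical
  obtain ⟨π, hπ⟩ := exists_ratProj
  haveI : Module.Free ℤ L := ZLattice.module_free ℝ L
  haveI : Module.Finite ℤ L := ZLattice.module_finite ℝ L
  let b := Module.Free.chooseBasis ℤ L
  let e := b.ofZLatticeBasis ℝ L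
  have he : ∀ i, e i = (b i : E) := fun i => b.ofZLatticeBasis_apply ℝ L i
  have heL : ∀ i, e i ∈ L := fun i => by rw [he]; exact (b i).2
  choose Q hQ using fun j i => hint (e j) (heL j) (e i) (heL i)
  choose m hm using fun i => hφ (e i) (heL i)
  set a := riesz φ with ha
  let q := e.repr a
  have hsum : a = ∑ j, q j • e j := (e.sum_repr a).symm
  have h1 : ∀ i, ∑ j, q j * ((Q j i : ℤ) : ℝ) = (m i : ℝ) := by
    intro i
    rw [← hm i, ← inner_riesz φ (e i), ← ha]
    conv_rhs => rw [hsum]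
    rw [sum_inner]
    apply Finset.sum_congr rfl
    intro j _
    rw [real_inner_smul_left, hQ j i]
  have h2 : ∀ i, ∑ j, π (q j) * (Q j i : ℚ) = (m i : ℚ) := by
    intro i
    have := congrArg π (h1 i)
    rw [map_sum] at this
    have e1 : ∀ j, π (q j * ((Q j i : ℤ) : ℝ)) = π (q j) * (Q j i : ℚ) := by
      intro j
      have : ((Q j i : ℤ) : ℝ) = (((Q j i : ℤ) : ℚ) : ℝ) := by push_cast; rfl
      rw [this, ratProj_mul']
    rw [Finset.sum_congr rfl (fun j _ => e1 j)] at this
    rw [this]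
    have : ((m i : ℤ) : ℝ) = (((m i : ℤ) : ℚ) : ℝ) := by push_cast; rfl
    rw [this, hπ]
  let a' : E := ∑ j, ((π (q j) : ℚ) : ℝ) • e j
  have h3 : a' = a := by
    apply eq_of_forall_inner_basis e
    intro i
    rw [ha, inner_riesz, hm i]
    show inner ℝ (∑ j, ((π (q j) : ℚ) : ℝ) • e j) (e i) = _
    rw [sum_inner]
    have e2 : ∀ j, inner ℝ (((π (q j) : ℚ) : ℝ) • e j) (e i) = ((π (q j) * (Q j i : ℚ) : ℚ) : ℝ) := by
      intro j
      rw [real_inner_smul_left, hQ j i]
      push_cast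
      rfl
    rw [Finset.sum_congr rfl (fun j _ => e2 j), ← Rat.cast_sum, h2 i]
    push_cast
    rfl
  rw [← h3]
  apply IsRat.sum
  intro j _
  exact (IsRat.of_mem (heL j)).smul_rat _

end Riesz

end Groth.Agent.Lib.Helper5.Kempf
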