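import Mathlib
import Groth.Agent.Lib.Helper5.Kempf.B

set_option autoImplicit false

namespace Groth.Agent.Lib.Helper5.Kempf

open scoped RealInnerProductSpace
open Filter Topology

theorem ev_pos (a b : ℝ) (ha : 0 < a) : ∀ᶠ t in 𝓝 (0 : ℝ), 0 < a + t * b := by
  have hc : Continuous fun t : ℝ => a + t * b := by fun_prop
  have h0 : (fun t : ℝ => a + t * b) 0 = a := by simp
  have := hc.continuousAt.eventually (lt_mem_nhds (h0.symm ▸ ha))
  exact this

theorem lin_coeff_zero (a b : ℝ) (h : ∀ᶠ t in 𝓝 (0 : ℝ), b * t + a * t ^ 2 ≤ 0) : b = 0 := by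
  rw [Metric.eventually_nhds_iff] at h
  obtain ⟨ε, hε, h⟩ := h
  by_contra hb
  have hA : 0 < |a| + 1 := by positivity
  rcases lt_or_gt_of_ne hb with hneg | hpos
  · -- b < 0: take negative t
    set t := min (ε / 2) (-b / (2 * (|a| + 1))) with ht
    have ht0 : 0 < t := lt_min (by linarith) (by apply div_pos <;> linarith)
    have ht1 : t ≤ ε / 2 := min_le_left _ _
    have ht2 : t ≤ -b / (2 * (|a| + 1)) := min_le_right _ _
    have h1 := h (y := -t) (by rw [Real.dist_eq, sub_zero, abs_neg, abs_of_pos ht0]; linarith)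
    have h3 : t * (2 * (|a| + 1)) ≤ -b := by rwa [le_div_iff₀ (by linarith)] at ht2
    have h4 : a * t ≥ -(|a| * t) := by
      have := neg_abs_le a
      nlinarith
    nlinarith [abs_nonneg a]
  · set t := min (ε / 2) (b / (2 * (|a| + 1))) with ht
    have ht0 : 0 < t := lt_min (by linarith) (by apply div_pos <;> linarith)
    have ht1 : t ≤ ε / 2 := min_le_left _ _
    have ht2 : t ≤ b / (2 * (|a| + 1)) := min_le_right _ _
    have h1 := h (y := t) (by rw [Real.dist_eq, sub_zero, abs_of_pos ht0]; linarith)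
    have h3 : t * (2 * (|a| + 1)) ≤ b := by rwa [le_div_iff₀ (by linarith)] at ht2
    have h4 : a * t ≥ -(|a| * t) := by
      have := neg_abs_le a
      nlinarith
    nlinarith [abs_nonneg a]

section ClaimA
variable {E : Type*} [NormedAddCommGroup E] [InnerProductSpace ℝ E]
  (F G : Finset (Module.Dual ℝ E)) (hG : G.Nonempty)

theorem claimA (v₁ : E) (hv1 : ‖v₁‖ = 1) (hfv : ∀ f ∈ F, 0 ≤ f v₁) (M : ℝ) (hM : 0 < M)
    (hgv : G.inf' hG (fun g => g v₁) = M)
    (hmax : ∀ v : E, v ≠ 0 → (∀ f ∈ F, 0 ≤ f v) → G.inf' hG (fun g => g v) ≤ M * ‖v‖)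
    (g₀ : Module.Dual ℝ E) (hg₀ : g₀ ∈ G) (hg₀v : g₀ v₁ = M)
    (w : E) (hwF : ∀ f ∈ F, f v₁ = 0 → f w = 0) (hwG : ∀ g ∈ G, g v₁ = M → g w = g₀ w) :
    g₀ w = M * inner ℝ v₁ w := by
  have hge : ∀ g ∈ G, M ≤ g v₁ := fun g hg => hgv ▸ Finset.inf'_le _ hg
  have h1 : ∀ᶠ t in 𝓝 (0 : ℝ), ∀ f ∈ F, 0 ≤ f (v₁ + t • w) := by
    rw [Filter.eventually_all_finset]
    intro f hf
    by_cases h0 : f v₁ = 0
    · refine Filter.Eventually.of_forall (fun t => ?_)
      rw [map_add, map_smul, h0, hwF f hf h0]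
      simp
    · have hpos : 0 < f v₁ := lt_of_le_of_ne (hfv f hf) (Ne.symm h0)
      refine (ev_pos (f v₁) (f w) hpos).mono (fun t ht => ?_)
      rw [map_add, map_smul, smul_eq_mul]
      exact ht.le
  have h2 : ∀ᶠ t in 𝓝 (0 : ℝ), ∀ g ∈ G, M + t * g₀ w ≤ g (v₁ + t • w) := by
    rw [Filter.eventually_all_finset]
    intro g hg
    by_cases h0 : g v₁ = M
    · refine Filter.Eventually.of_forall (fun t => ?_)
      rw [map_add, map_smul, h0, hwG g hg h0, smul_eq_mul]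
    · have hpos : 0 < g v₁ - M := sub_pos.mpr (lt_of_le_of_ne (hge g hg) (Ne.symm h0))
      refine (ev_pos (g v₁ - M) (g w - g₀ w) hpos).mono (fun t ht => ?_)
      rw [map_add, map_smul, smul_eq_mul]
      nlinarith
  have h3 : ∀ᶠ t in 𝓝 (0 : ℝ), 0 < M + t * g₀ w := ev_pos M (g₀ w) hM
  have key : ∀ᶠ t in 𝓝 (0 : ℝ),
      (2 * M * g₀ w - 2 * M ^ 2 * inner ℝ v₁ w) * t + ((g₀ w) ^ 2 - M ^ 2 * ‖w‖ ^ 2) * t ^ 2 ≤ 0 := by
    filter_upwards [h1, h2, h3] with t ht1 ht2 ht3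
    have hg₀t : g₀ (v₁ + t • w) = M + t * g₀ w := by
      rw [map_add, map_smul, hg₀v, smul_eq_mul]
    have hne : v₁ + t • w ≠ 0 := by
      intro h0
      rw [h0, map_zero] at hg₀t
      linarith
    have hinf : G.inf' hG (fun g => g (v₁ + t • w)) = M + t * g₀ w := by
      apply le_antisymm
      · rw [← hg₀t]
        exact Finset.inf'_le (fun g => g (v₁ + t • w)) hg₀
      · rw [Finset.le_inf'_iff]
        exact ht2
    have h4 := hmax _ hne ht1
    rw [hinf] at h4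
    have h5 : (M + t * g₀ w) ^ 2 ≤ (M * ‖v₁ + t • w‖) ^ 2 :=
      pow_le_pow_left₀ ht3.le h4 2
    have h6 : ‖v₁ + t • w‖ ^ 2 = 1 + 2 * t * inner ℝ v₁ w + t ^ 2 * ‖w‖ ^ 2 := by
      rw [norm_add_sq_real, hv1, real_inner_smul_right, norm_smul, mul_pow, Real.norm_eq_abs,
        sq_abs]
      ring
    rw [mul_pow, h6] at h5
    nlinarith
  have hb := lin_coeff_zero _ _ key
  have hM' : M ≠ 0 := hM.ne'
  have : 2 * M * (g₀ w - M * inner ℝ v₁ w) = 0 := by linarith [hb]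
  have h7 : g₀ w - M * inner ℝ v₁ w = 0 := by
    rcases mul_eq_zero.mp this with h | h
    · exact absurd (by linarith : M = 0) hM'
    · exact h
  linarith

end ClaimA

end Groth.Agent.Lib.Helper5.Kempf
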