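import Mathlib
import Groth.Agent.Lib.Helper5.Kempf.C

set_option autoImplicit false

namespace Groth.Agent.Lib.Helper5.Kempf

open scoped RealInnerProductSpace
open Filter Topology

section Rat
variable {E : Type*} [NormedAddCommGroup E] [InnerProductSpace ℝ E] [FiniteDimensional ℝ E]
  (L : Submodule ℤ E) [DiscreteTopology L] [IsZLattice ℝ L]
  (hint : ∀ x ∈ L, ∀ y ∈ L, ∃ n : ℤ, inner ℝ x y = (n : ℝ))
  (F G : Finset (Module.Dual ℝ E)) (hG : G.Nonempty)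
  (hFi : ∀ f ∈ F, ∀ x ∈ L, ∃ n : ℤ, f x = (n : ℝ)) (hGi : ∀ g ∈ G, ∀ x ∈ L, ∃ n : ℤ, g x = (n : ℝ))

include hint hFi hGi in
theorem exists_pos_smul_mem (v₁ : E) (hv1 : ‖v₁‖ = 1) (hfv : ∀ f ∈ F, 0 ≤ f v₁) (M : ℝ) (hM : 0 < M)
    (hgv : G.inf' hG (fun g => g v₁) = M)
    (hmax : ∀ v : E, v ≠ 0 → (∀ f ∈ F, 0 ≤ f v) → G.inf' hG (fun g => g v) ≤ M * ‖v‖) :
    ∃ t : ℝ, 0 < t ∧ t • v₁ ∈ L := by
  classical
  obtain ⟨π, hπ⟩ := exists_ratProj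
  obtain ⟨g₀, hg₀, hg₀v⟩ : ∃ g₀ ∈ G, g₀ v₁ = M := by
    obtain ⟨g, hg, h⟩ := Finset.exists_mem_eq_inf' hG (fun g => g v₁)
    exact ⟨g, hg, by rw [← h, hgv]⟩
  let Φ : Finset (Module.Dual ℝ E) :=
    (F.filter (fun f => f v₁ = 0)) ∪ (G.filter (fun g => g v₁ = M)).image (fun g => g - g₀)
  have hΦv : ∀ φ ∈ Φ, φ v₁ = 0 := by
    intro φ hφ
    rcases Finset.mem_union.mp hφ with h | h
    · exact (Finset.mem_filter.mp h).2
    · obtain ⟨g, hg, rfl⟩ := Finset.mem_image.mp h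
      rw [LinearMap.sub_apply, (Finset.mem_filter.mp hg).2, hg₀v, sub_self]
  have hΦi : ∀ φ ∈ Φ, ∀ x ∈ L, ∃ n : ℤ, φ x = (n : ℝ) := by
    intro φ hφ x hx
    rcases Finset.mem_union.mp hφ with h | h
    · exact hFi φ (Finset.mem_filter.mp h).1 x hx
    · obtain ⟨g, hg, rfl⟩ := Finset.mem_image.mp h
      obtain ⟨n, hn⟩ := hGi g (Finset.mem_filter.mp hg).1 x hx
      obtain ⟨m, hm⟩ := hGi g₀ hg₀ x hx
      exact ⟨n - m, by rw [LinearMap.sub_apply, hn, hm]; push_cast; rfl⟩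
  have hΦw : ∀ w : E, (∀ φ ∈ Φ, φ w = 0) → g₀ w = M * inner ℝ v₁ w := by
    intro w hw
    apply claimA F G hG v₁ hv1 hfv M hM hgv hmax g₀ hg₀ hg₀v w
    · intro f hf h0
      exact hw f (Finset.mem_union_left _ (Finset.mem_filter.mpr ⟨hf, h0⟩))
    · intro g hg h0
      have := hw (g - g₀) (Finset.mem_union_right _
        (Finset.mem_image.mpr ⟨g, Finset.mem_filter.mpr ⟨hg, h0⟩, rfl⟩))
      rw [LinearMap.sub_apply] at this
      linarith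
  set u : E := M • v₁ with hu
  let A : Submodule ℝ E := Submodule.span ℝ (riesz '' (Φ : Set (Module.Dual ℝ E)))
  have hmem : u - riesz g₀ ∈ A := by
    rw [← Submodule.orthogonal_orthogonal A, Submodule.mem_orthogonal]
    intro w hw
    rw [Submodule.mem_orthogonal] at hw
    have h1 : ∀ φ ∈ Φ, φ w = 0 := by
      intro φ hφ
      rw [← inner_riesz φ w]
      exact hw _ (Submodule.subset_span ⟨φ, hφ, rfl⟩)
    have h2 := hΦw w h1
    rw [inner_sub_right, hu, real_inner_smul_right, real_inner_comm (riesz g₀) w,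
      inner_riesz, h2, real_inner_comm v₁ w]
    ring
  obtain ⟨c, hc⟩ := (Submodule.mem_span_image_finset_iff_exists_fun' (R := ℝ)).mp hmem
  have hrat : ∀ φ ∈ Φ, IsRat L (riesz φ) := fun φ hφ => isRat_riesz L hint φ (hΦi φ hφ)
  have hrat₀ : IsRat L (riesz g₀) := isRat_riesz L hint g₀ (hGi g₀ hg₀)
  have hR' : ∀ ψ ∈ Φ, ∀ φ ∈ Φ, ∃ q : ℚ, ψ (riesz φ) = (q : ℝ) := by
    intro ψ hψ φ hφ
    rw [← inner_riesz ψ]
    exact IsRat.inner_rat hint (hrat ψ hψ) (hrat φ hφ)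
  have hr' : ∀ ψ ∈ Φ, ∃ q : ℚ, ψ (riesz g₀) = (q : ℝ) := by
    intro ψ hψ
    rw [← inner_riesz ψ]
    exact IsRat.inner_rat hint (hrat ψ hψ) hrat₀
  choose! R hR using hR'
  choose! r hr using hr'
  have hueq : u = riesz g₀ + ∑ φ ∈ Φ, c φ • riesz φ := by rw [hc]; abel
  have heq1 : ∀ ψ ∈ Φ, (r ψ : ℝ) + ∑ φ ∈ Φ, c φ * (R ψ φ : ℝ) = 0 := by
    intro ψ hψ
    have h0 : ψ u = 0 := by rw [hu, map_smul, hΦv ψ hψ, smul_zero]
    rw [hueq, map_add, map_sum, hr ψ hψ] at h0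
    rw [← h0]
    congr 1
    apply Finset.sum_congr rfl
    intro φ hφ
    rw [map_smul, smul_eq_mul, hR ψ hψ φ hφ]
  have heq2 : ∀ ψ ∈ Φ, r ψ + ∑ φ ∈ Φ, π (c φ) * R ψ φ = 0 := by
    intro ψ hψ
    have := congrArg π (heq1 ψ hψ)
    rw [map_add, map_sum, hπ, map_zero] at this
    rw [← this]
    congr 1
    apply Finset.sum_congr rfl
    intro φ _
    rw [ratProj_mul']
  set u' : E := riesz g₀ + ∑ φ ∈ Φ, ((π (c φ) : ℚ) : ℝ) • riesz φ with hu'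
  have hu'0 : ∀ ψ ∈ Φ, ψ u' = 0 := by
    intro ψ hψ
    rw [hu', map_add, map_sum, hr ψ hψ]
    have e1 : ∀ φ ∈ Φ, ψ (((π (c φ) : ℚ) : ℝ) • riesz φ) = ((π (c φ) * R ψ φ : ℚ) : ℝ) := by
      intro φ hφ
      rw [map_smul, smul_eq_mul, hR ψ hψ φ hφ]
      push_cast
      rfl
    rw [Finset.sum_congr rfl e1, ← Rat.cast_sum, ← Rat.cast_add, heq2 ψ hψ, Rat.cast_zero]
  have hd : u - u' = ∑ φ ∈ Φ, (c φ - ((π (c φ) : ℚ) : ℝ)) • riesz φ := by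
    rw [hueq, hu', add_sub_add_left_eq_sub, ← Finset.sum_sub_distrib]
    apply Finset.sum_congr rfl
    intro φ _
    rw [sub_smul]
  have hd0 : ∀ ψ ∈ Φ, ψ (u - u') = 0 := by
    intro ψ hψ
    rw [map_sub, hu'0 ψ hψ, hu, map_smul, hΦv ψ hψ, smul_zero, sub_zero]
  have hzero : u - u' = 0 := by
    have h0 : inner ℝ (∑ φ ∈ Φ, (c φ - ((π (c φ) : ℚ) : ℝ)) • riesz φ) (u - u') = 0 := by
      rw [sum_inner]
      apply Finset.sum_eq_zero
      intro φ hφ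
      rw [real_inner_smul_left, inner_riesz, hd0 φ hφ, mul_zero]
    rw [← hd] at h0
    exact inner_self_eq_zero.mp h0
  have hratu : IsRat L u := by
    rw [sub_eq_zero.mp hzero, hu']
    apply hrat₀.add
    apply IsRat.sum
    intro φ hφ
    exact (hrat φ hφ).smul_rat _
  obtain ⟨n, hn, hnu⟩ := hratu
  refine ⟨(n : ℝ) * M, by positivity, ?_⟩
  rw [mul_smul, Nat.cast_smul_eq_nsmul]
  exact hnu

end Rat

end Groth.Agent.Lib.Helper5.Kempf
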