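import Mathlib
import Groth.Agent.Lib.Helper5.Kempf.D

set_option autoImplicit false

namespace Groth.Agent.Lib.Helper5.Kempf

open scoped RealInnerProductSpace
open Filter Topology

section Basic
variable {E : Type*} [NormedAddCommGroup E] [InnerProductSpace ℝ E]
  (G : Finset (Module.Dual ℝ E)) (hG : G.Nonempty)

theorem gm_smul (c : ℝ) (hc : 0 ≤ c) (v : E) :
    G.inf' hG (fun g => g (c • v)) = c * G.inf' hG (fun g => g v) := by
  obtain ⟨g₁, hg₁, h1⟩ := Finset.exists_mem_eq_inf' hG (fun g => g v)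
  obtain ⟨g₂, hg₂, h2⟩ := Finset.exists_mem_eq_inf' hG (fun g => g (c • v))
  apply le_antisymm
  · rw [h1]
    have := Finset.inf'_le (fun g => g (c • v)) hg₁
    simpa using this
  · rw [h2, map_smul, smul_eq_mul]
    exact mul_le_mul_of_nonneg_left (Finset.inf'_le (fun g => g v) hg₂) hc

theorem gm_add_ge (a b : E) :
    G.inf' hG (fun g => g a) + G.inf' hG (fun g => g b) ≤ G.inf' hG (fun g => g (a + b)) := by
  obtain ⟨g, hg, h⟩ := Finset.exists_mem_eq_inf' hG (fun g => g (a + b))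
  rw [h, map_add]
  exact add_le_add (Finset.inf'_le (fun g => g a) hg) (Finset.inf'_le (fun g => g b) hg)

theorem gm_zero : G.inf' hG (fun g => g (0 : E)) = 0 := by
  simp only [map_zero]
  exact Finset.inf'_const hG 0

end Basic

section Max
variable {E : Type*} [NormedAddCommGroup E] [InnerProductSpace ℝ E] [FiniteDimensional ℝ E]
  (F G : Finset (Module.Dual ℝ E)) (hG : G.Nonempty)

theorem exists_max (hpos : ∃ v : E, (∀ f ∈ F, 0 ≤ f v) ∧ 0 < G.inf' hG (fun g => g v)) :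
    ∃ (v₁ : E) (M : ℝ), ‖v₁‖ = 1 ∧ (∀ f ∈ F, 0 ≤ f v₁) ∧ 0 < M ∧
      G.inf' hG (fun g => g v₁) = M ∧
      ∀ v : E, v ≠ 0 → (∀ f ∈ F, 0 ≤ f v) → G.inf' hG (fun g => g v) ≤ M * ‖v‖ := by
  let K : Set E := {v | ‖v‖ = 1 ∧ ∀ f ∈ F, 0 ≤ f v}
  have hcont : ∀ g : Module.Dual ℝ E, Continuous g :=
    fun g => LinearMap.continuous_of_finiteDimensional g
  have hKc : IsCompact K := by
    have hsub : K ⊆ Metric.sphere (0 : E) 1 := by
      intro v hv
      rw [mem_sphere_zero_iff_norm]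
      exact hv.1
    apply (isCompact_sphere (0 : E) 1).of_isClosed_subset _ hsub
    have : K = {v | ‖v‖ = 1} ∩ ⋂ f ∈ F, {v | 0 ≤ f v} := by
      ext v
      simp only [K, Set.mem_ofPred_eq, Set.mem_inter_iff, Set.mem_iInter]
    rw [this]
    apply IsClosed.inter
    · exact isClosed_eq continuous_norm continuous_const
    · apply isClosed_biInter
      intro f _
      exact isClosed_le continuous_const (hcont f)
  have hnorm : ∀ v : E, v ≠ 0 → (∀ f ∈ F, 0 ≤ f v) → ‖v‖⁻¹ • v ∈ K := by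
    intro v hv hf
    have hn : 0 < ‖v‖ := norm_pos_iff.mpr hv
    refine ⟨?_, ?_⟩
    · rw [norm_smul, norm_inv, norm_norm, inv_mul_cancel₀ hn.ne']
    · intro f hf'
      rw [map_smul, smul_eq_mul]
      exact mul_nonneg (inv_nonneg.mpr hn.le) (hf f hf')
  obtain ⟨v, hvf, hvg⟩ := hpos
  have hv0 : v ≠ 0 := by
    intro h0
    rw [h0, gm_zero] at hvg
    exact lt_irrefl _ hvg
  have hKne : K.Nonempty := ⟨_, hnorm v hv0 hvf⟩
  have hgc : Continuous fun x : E => G.inf' hG (fun g => g x) :=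
    Continuous.finset_inf'_apply hG (fun g _ => hcont g)
  obtain ⟨v₁, hv₁K, hv₁max⟩ := hKc.exists_isMaxOn hKne hgc.continuousOn
  have hmaxK : ∀ x ∈ K, G.inf' hG (fun g => g x) ≤ G.inf' hG (fun g => g v₁) := fun x hx => hv₁max hx
  refine ⟨v₁, G.inf' hG (fun g => g v₁), hv₁K.1, hv₁K.2, ?_, rfl, ?_⟩
  · have h1 := hmaxK _ (hnorm v hv0 hvf)
    rw [gm_smul G hG _ (inv_nonneg.mpr (norm_nonneg v))] at h1
    have : 0 < ‖v‖⁻¹ * G.inf' hG (fun g => g v) :=
      mul_pos (inv_pos.mpr (norm_pos_iff.mpr hv0)) hvg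
    linarith
  · intro x hx hxf
    have h1 := hmaxK _ (hnorm x hx hxf)
    rw [gm_smul G hG _ (inv_nonneg.mpr (norm_nonneg x))] at h1
    have hn : 0 < ‖x‖ := norm_pos_iff.mpr hx
    rw [inv_mul_le_iff₀ hn] at h1
    linarith

theorem unit_max_unique (v₁ : E) (hv1 : ‖v₁‖ = 1) (hfv : ∀ f ∈ F, 0 ≤ f v₁) (M : ℝ) (hM : 0 < M)
    (hgv : G.inf' hG (fun g => g v₁) = M)
    (hmax : ∀ v : E, v ≠ 0 → (∀ f ∈ F, 0 ≤ f v) → G.inf' hG (fun g => g v) ≤ M * ‖v‖)
    (v : E) (hv : ‖v‖ = 1) (hfv' : ∀ f ∈ F, 0 ≤ f v) (hgv' : G.inf' hG (fun g => g v) = M) :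
    v = v₁ := by
  have h1 := gm_add_ge G hG v v₁
  rw [hgv, hgv'] at h1
  have hne : v + v₁ ≠ 0 := by
    intro h0
    rw [h0, gm_zero] at h1
    linarith
  have h2 := hmax _ hne (fun f hf => by rw [map_add]; exact add_nonneg (hfv' f hf) (hfv f hf))
  have h3 : 2 ≤ ‖v + v₁‖ := by
    have : M * 2 ≤ M * ‖v + v₁‖ := by linarith
    exact le_of_mul_le_mul_left this hM
  have h4 : ‖v + v₁‖ = ‖v‖ + ‖v₁‖ := by
    apply le_antisymm (norm_add_le _ _)
    rw [hv, hv1]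
    linarith
  have h5 : SameRay ℝ v v₁ := sameRay_iff_norm_add.mpr h4
  exact (sameRay_iff_of_norm_eq (by rw [hv, hv1])).mp h5

end Max

end Groth.Agent.Lib.Helper5.Kempf
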