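import Mathlib
import Groth.Agent.Lib.Helper5.Kempf.E

set_option autoImplicit false

namespace Groth.Agent.Lib.Helper5.Kempf

open scoped RealInnerProductSpace

section Prim
variable {E : Type*} [NormedAddCommGroup E] [InnerProductSpace ℝ E]
  (L : Submodule ℤ E) (hint : ∀ x ∈ L, ∀ y ∈ L, ∃ n : ℤ, inner ℝ x y = (n : ℝ))

include hint in
theorem sq_nat_of_mem (v₁ : E) (hv1 : ‖v₁‖ = 1) (t : ℝ) (ht : t • v₁ ∈ L) :
    ∃ k : ℕ, t ^ 2 = (k : ℝ) := by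
  obtain ⟨n, hn⟩ := hint _ ht _ ht
  rw [real_inner_smul_left, real_inner_smul_right, real_inner_self_eq_norm_sq, hv1] at hn
  have hn' : t ^ 2 = (n : ℝ) := by rw [← hn]; ring
  have h0 : (0 : ℝ) ≤ (n : ℝ) := by rw [← hn']; positivity
  have h1 : 0 ≤ n := by exact_mod_cast h0
  refine ⟨n.toNat, ?_⟩
  rw [hn']
  have : ((n.toNat : ℤ) : ℝ) = (n : ℝ) := by rw [Int.toNat_of_nonneg h1]
  exact_mod_cast this.symm

include hint in
theorem exists_primitive (v₁ : E) (hv1 : ‖v₁‖ = 1) (hT : ∃ t : ℝ, 0 < t ∧ t • v₁ ∈ L) :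
    ∃ t₀ : ℝ, 0 < t₀ ∧ t₀ • v₁ ∈ L ∧ ∀ t : ℝ, 0 < t → t • v₁ ∈ L → ∃ n : ℤ, t = n * t₀ := by
  classical
  let P : ℕ → Prop := fun k => ∃ t : ℝ, 0 < t ∧ t • v₁ ∈ L ∧ t ^ 2 = (k : ℝ)
  have hP : ∃ k, P k := by
    obtain ⟨t, ht0, ht⟩ := hT
    obtain ⟨k, hk⟩ := sq_nat_of_mem L hint v₁ hv1 t ht
    exact ⟨k, t, ht0, ht, hk⟩
  obtain ⟨t₀, ht₀0, ht₀, hk₀⟩ := Nat.find_spec hP
  refine ⟨t₀, ht₀0, ht₀, ?_⟩
  intro t ht0 ht
  set n : ℤ := ⌊t / t₀⌋ with hn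
  set r : ℝ := t - n * t₀ with hr
  have hr0 : 0 ≤ r := by
    have := Int.floor_le (t / t₀)
    rw [← hn, le_div_iff₀ ht₀0] at this
    linarith
  have hr1 : r < t₀ := by
    have := Int.lt_floor_add_one (t / t₀)
    rw [← hn, div_lt_iff₀ ht₀0] at this
    linarith
  have hrL : r • v₁ ∈ L := by
    have : r • v₁ = t • v₁ - n • (t₀ • v₁) := by
      rw [hr, sub_smul, mul_smul, Int.cast_smul_eq_zsmul]
    rw [this]
    exact L.sub_mem ht (L.smul_mem n ht₀)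
  refine ⟨n, ?_⟩
  rcases hr0.eq_or_lt with h | h
  · linarith
  · exfalso
    obtain ⟨k, hk⟩ := sq_nat_of_mem L hint v₁ hv1 r hrL
    have hPk : P k := ⟨r, h, hrL, hk⟩
    have h1 : Nat.find hP ≤ k := Nat.find_min' hP hPk
    have h2 : (k : ℝ) < (Nat.find hP : ℝ) := by
      rw [← hk, ← hk₀]
      nlinarith
    have h3 : k < Nat.find hP := by exact_mod_cast h2
    omega

end Prim

end Groth.Agent.Lib.Helper5.Kempf
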