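import Mathlib
import Groth.Agent.Lib.Helper5.Kempf.F

set_option autoImplicit false

namespace Groth.Agent.Lib.Helper5.Kempf

open scoped RealInnerProductSpace

universe u

theorem main17517
    (E : Type u) [NormedAddCommGroup E] [InnerProductSpace ℝ E] [FiniteDimensional ℝ E]
    (L : Submodule ℤ E) [DiscreteTopology L] [IsZLattice ℝ L]
    (hint : ∀ x ∈ L, ∀ y ∈ L, ∃ n : ℤ, inner ℝ x y = (n : ℝ))
    (F G : Finset (Module.Dual ℝ E)) (hF : F.Nonempty) (hG : G.Nonempty)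
    (hFi : ∀ f ∈ F, ∀ x ∈ L, ∃ n : ℤ, f x = (n : ℝ)) (hGi : ∀ g ∈ G, ∀ x ∈ L, ∃ n : ℤ, g x = (n : ℝ))
    (hpos : ∃ v : E, 0 ≤ F.inf' hF (fun f => f v) ∧ 0 < G.inf' hG (fun g => g v)) :
    ∃ M : ℝ, IsGreatest ((fun v => G.inf' hG (fun g => g v) / ‖v‖) ''
        {v : E | v ≠ 0 ∧ 0 ≤ F.inf' hF (fun f => f v)}) M ∧
      ∃! v₀ : E, v₀ ∈ L ∧ v₀ ≠ 0 ∧ 0 ≤ F.inf' hF (fun f => f v₀) ∧
        G.inf' hG (fun g => g v₀) / ‖v₀‖ = M ∧
        ∀ v ∈ L, v ≠ 0 → 0 ≤ F.inf' hF (fun f => f v) → G.inf' hG (fun g => g v) / ‖v‖ = M →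
          ∃ n : ℤ, v = n • v₀ := by
  have hfm : ∀ v : E, 0 ≤ F.inf' hF (fun f => f v) ↔ ∀ f ∈ F, 0 ≤ f v := fun v => Finset.le_inf'_iff hF _
  obtain ⟨v₁, M, hv1, hfv, hM, hgv, hmax⟩ := exists_max F G hG (by
    obtain ⟨v, h1, h2⟩ := hpos
    exact ⟨v, (hfm v).mp h1, h2⟩)
  have hv1ne : v₁ ≠ 0 := by
    intro h0
    rw [h0, norm_zero] at hv1
    exact zero_ne_one hv1
  -- every maximizer is a positive multiple of v₁
  have hray : ∀ v : E, v ≠ 0 → (∀ f ∈ F, 0 ≤ f v) → G.inf' hG (fun g => g v) / ‖v‖ = M →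
      v = ‖v‖ • v₁ := by
    intro v hv hf hgM
    have hn : 0 < ‖v‖ := norm_pos_iff.mpr hv
    have h1 : ‖v‖⁻¹ • v = v₁ := by
      apply unit_max_unique F G hG v₁ hv1 hfv M hM hgv hmax
      · rw [norm_smul, norm_inv, norm_norm, inv_mul_cancel₀ hn.ne']
      · intro f hf'
        rw [map_smul, smul_eq_mul]
        exact mul_nonneg (inv_nonneg.mpr hn.le) (hf f hf')
      · rw [gm_smul G hG _ (inv_nonneg.mpr hn.le), ← hgM]
        field_simp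
    rw [← h1, smul_smul, mul_inv_cancel₀ hn.ne', one_smul]
  have hscale : ∀ t : ℝ, 0 < t → (t • v₁ ≠ 0 ∧ (∀ f ∈ F, 0 ≤ f (t • v₁)) ∧
      G.inf' hG (fun g => g (t • v₁)) / ‖t • v₁‖ = M ∧ ‖t • v₁‖ = t) := by
    intro t ht
    have hnorm : ‖t • v₁‖ = t := by rw [norm_smul, hv1, mul_one, Real.norm_eq_abs, abs_of_pos ht]
    refine ⟨smul_ne_zero ht.ne' hv1ne, ?_, ?_, hnorm⟩
    · intro f hf
      rw [map_smul, smul_eq_mul]
      exact mul_nonneg ht.le (hfv f hf)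
    · rw [gm_smul G hG t ht.le, hgv, hnorm]
      field_simp
  refine ⟨M, ⟨?_, ?_⟩, ?_⟩
  · refine ⟨v₁, ⟨hv1ne, (hfm v₁).mpr hfv⟩, ?_⟩
    simp only [hgv, hv1, div_one]
  · rintro _ ⟨v, ⟨hv0, hvf⟩, rfl⟩
    have hn : 0 < ‖v‖ := norm_pos_iff.mpr hv0
    simp only
    rw [div_le_iff₀ hn]
    exact hmax v hv0 ((hfm v).mp hvf)
  · obtain ⟨t₀, ht₀0, ht₀L, hprim⟩ := exists_primitive L hint v₁ hv1
      (exists_pos_smul_mem L hint F G hG hFi hGi v₁ hv1 hfv M hM hgv hmax)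
    obtain ⟨h1, h2, h3, h4⟩ := hscale t₀ ht₀0
    have hmult : ∀ v ∈ L, v ≠ 0 → 0 ≤ F.inf' hF (fun f => f v) →
        G.inf' hG (fun g => g v) / ‖v‖ = M → ∃ n : ℤ, ‖v‖ = n * t₀ ∧ v = n • (t₀ • v₁) := by
      intro v hvL hv0 hvf hvg
      have hv := hray v hv0 ((hfm v).mp hvf) hvg
      have hn : 0 < ‖v‖ := norm_pos_iff.mpr hv0
      obtain ⟨n, hn'⟩ := hprim ‖v‖ hn (hv ▸ hvL)
      refine ⟨n, hn', ?_⟩
      rw [← Int.cast_smul_eq_zsmul ℝ, smul_smul, ← hn']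
      exact hv
    refine ⟨t₀ • v₁, ⟨ht₀L, h1, (hfm _).mpr h2, h3, ?_⟩, ?_⟩
    · intro v hvL hv0 hvf hvg
      obtain ⟨n, _, hn⟩ := hmult v hvL hv0 hvf hvg
      exact ⟨n, hn⟩
    · rintro w ⟨hwL, hw0, hwf, hwg, hwprop⟩
      -- w = n • v₀ and v₀ = m • w
      obtain ⟨n, hn1, hn2⟩ := hmult w hwL hw0 hwf hwg
      obtain ⟨m, hm⟩ := hwprop (t₀ • v₁) ht₀L h1 ((hfm _).mpr h2) h3
      have hwn : 0 < ‖w‖ := norm_pos_iff.mpr hw0
      -- norms: t₀ = |m| * ‖w‖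
      have hm' : t₀ = |(m : ℝ)| * ‖w‖ := by
        have := congrArg norm hm
        rw [h4, ← Int.cast_smul_eq_zsmul ℝ, norm_smul, Real.norm_eq_abs] at this
        exact this
      have hnpos : 0 < (n : ℝ) := by
        have : 0 < (n : ℝ) * t₀ := hn1 ▸ hwn
        exact (mul_pos_iff_of_pos_right ht₀0).mp this
      have hprod : |(m : ℝ)| * (n : ℝ) = 1 := by
        have : t₀ = |(m : ℝ)| * ((n : ℝ) * t₀) := by rw [← hn1]; exact hm'
        have h5 : t₀ * 1 = t₀ * (|(m : ℝ)| * (n : ℝ)) := by linarith [this]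
        exact (mul_left_cancel₀ ht₀0.ne' h5).symm
      have hn1' : n = 1 := by
        have hnge : (1 : ℤ) ≤ n := by
          have : (0 : ℤ) < n := by exact_mod_cast hnpos
          omega
        have hmabs : (1 : ℝ) ≤ |(m : ℝ)| := by
          have hm0 : m ≠ 0 := by
            intro h0
            rw [h0] at hprod
            simp at hprod
          have : (1 : ℤ) ≤ |m| := Int.one_le_abs hm0
          have h6 : ((1 : ℤ) : ℝ) ≤ ((|m| : ℤ) : ℝ) := by exact_mod_cast this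
          simpa using h6
        have hnle : (n : ℝ) ≤ 1 := by
          by_contra hlt
          push Not at hlt
          have : 1 < |(m : ℝ)| * (n : ℝ) := by nlinarith
          linarith
        have : n ≤ 1 := by exact_mod_cast hnle
        omega
      rw [hn2, hn1', one_smul]

end Groth.Agent.Lib.Helper5.Kempf
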